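import Groth.Agent.PerfSchLib.Homeo
import Groth.Agent.AmpleLib.Extend
import Groth.Agent.AmpleFamLib.Descend

/-!
Ampleness descends along a perfection.
-/

set_option autoImplicit false
set_option backward.isDefEq.respectTransparency false
set_option linter.style.haveILetI false

universe u

open CategoryTheory AlgebraicGeometry TopologicalSpace Opposite
open Groth.Agent.ParaFLib Groth.Agent.PullbackMod Groth.Agent.DCohLib Groth.Agent.AmpleLib

noncomputable section

namespace Groth.Agent.PerfAmpleLib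

variable {p : ℕ} [hp : Fact p.Prime] {X XP : Scheme.{u}} [FrobSch.IsCharP X p] [FrobSch.IsCharP XP p] {π : XP ⟶ X}
  (h : FrobSch.IsPerfection π p) [CompactSpace X] [QuasiSeparatedSpace X]

include h

/-- Every section upstairs has a power with the same locus as a section from below. -/
theorem exists_section_eq {Q : X.Modules} (hQ : PicF.IsInvertible Q)
    (σ : Coh.structureModule XP ⟶ (Scheme.Modules.pullback π).obj Q) :
    ∃ (q : ℕ) (T : Coh.structureModule X ⟶ CohB1.tensorPow Q q), 0 < q ∧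
      π ⁻¹ᵁ CohB1.genLocus _ T = CohB1.genLocus _ σ := by
  classical
  have hcov : ∀ x : X, ∃ (O : X.Opens) (e : Γ(Q, O)), x ∈ O ∧ IsAffineOpen O ∧ Gen O e := fun x => by
    obtain ⟨W, e, hxW, he⟩ := exists_gen_nhd hQ x
    obtain ⟨O, hO, hxO, hOW⟩ := exists_isAffineOpen_mem_and_subset (X := X) (x := x) (U := W) hxW
    exact ⟨O, Q.presheaf.map (homOfLE hOW).op e, hxO, hO, he.res hOW⟩
  choose O e hxO hO he using hcov
  obtain ⟨t, ht⟩ := isCompact_univ.elim_finite_subcover (fun x : X => (O x : Set X)) (fun x => (O x).2)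
    (fun x _ => Set.mem_iUnion.2 ⟨x, hxO x⟩)
  let V : t → X.Opens := fun a => O a.1
  let g : ∀ a : t, Γ(Q, V a) := fun a => e a.1
  have hg : ∀ a, Gen (V a) (g a) := fun a => he a.1
  have hV : iSup V = ⊤ := top_le_iff.1 fun x _ => by
    obtain ⟨a, hat, hxa⟩ : ∃ a ∈ t, x ∈ O a := by simpa using ht (Set.mem_univ x)
    exact Opens.mem_iSup.2 ⟨⟨a, hat⟩, hxa⟩
  let P := (Scheme.Modules.pullback π).obj Q
  have hG : ∀ a, Gen (π ⁻¹ᵁ V a) (pullMap π Q le_rfl (g a)) := fun a => AmpleEmb.gen_pullMap π hQ (hg a)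
  have hcoef : ∀ a, ∃ c : Γ(XP, π ⁻¹ᵁ V a), c • pullMap π Q le_rfl (g a) = resT (sec σ) (π ⁻¹ᵁ V a) := fun a => by
    obtain ⟨c, hc⟩ := (hG a _ le_rfl).2 (resT (sec σ) (π ⁻¹ᵁ V a))
    simp only [ParaFLib.res_self] at hc
    exact ⟨c, hc⟩
  choose c hc using hcoef
  choose n a' ha' using fun a => (PerfSchLib.IsPerfection.affine_facts h (hO a.1)).2.1 (c a)
  let N := Finset.univ.sup n
  let A : ∀ a : t, Γ(X, V a) := fun a => a' a ^ p ^ (N - n a)
  have hA : ∀ a, π.app (V a) (A a) = c a ^ p ^ N := fun a => by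
    rw [map_pow, ha', ← pow_mul, ← pow_add, Nat.add_sub_cancel' (Finset.le_sup (Finset.mem_univ a))]
  clear_value A
  have hu : ∀ a b, ∃ u : Γ(X, V a ⊓ V b), IsUnit u ∧
      u • Q.presheaf.map (homOfLE (inf_le_right : V a ⊓ V b ≤ V b)).op (g b) =
        Q.presheaf.map (homOfLE (inf_le_left : V a ⊓ V b ≤ V a)).op (g a) := fun a b =>
    ((hg a).res inf_le_left).exists_unit ((hg b).res inf_le_right)
  choose u hu hue using hu
  have hrel : ∀ a b, XP.presheaf.map (homOfLE (π.preimage_mono (inf_le_left : V a ⊓ V b ≤ V a))).op (c a) *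
      π.app (V a ⊓ V b) (u a b) =
        XP.presheaf.map (homOfLE (π.preimage_mono (inf_le_right : V a ⊓ V b ≤ V b))).op (c b) := by
    intro a b
    refine ((hG b).res (π.preimage_mono inf_le_right) _ le_rfl).1 ?_
    simp only [ParaFLib.res_self, mul_smul]
    have e1 := congrArg (P.presheaf.map (homOfLE (π.preimage_mono (inf_le_left : V a ⊓ V b ≤ V a))).op) (hc a)
    have e2 := congrArg (P.presheaf.map (homOfLE (π.preimage_mono (inf_le_right : V a ⊓ V b ≤ V b))).op) (hc b)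
    rw [Scheme.Modules.map_smul, resT, ParaFLib.res_res,
      PullbackMod.pullMap_res π Q le_rfl inf_le_left (π.preimage_mono inf_le_left) le_rfl] at e1
    rw [Scheme.Modules.map_smul, resT, ParaFLib.res_res] at e2
    rw [PullbackMod.pullMap_res π Q le_rfl inf_le_right (π.preimage_mono inf_le_right) le_rfl,
      ← AmpleFamLib.pull_smul, hue]
    rw [PullbackMod.pullMap_res π Q le_rfl inf_le_right (π.preimage_mono inf_le_right) le_rfl] at e2
    exact e1.trans e2.symm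
  have hcompact : ∀ a b, IsCompact ((V a ⊓ V b : X.Opens) : Set X) := fun a b => by
    rw [Opens.coe_inf]
    exact QuasiSeparatedSpace.inter_isCompact _ _ (V a).2 (hO a.1).isCompact (V b).2 (hO b.1).isCompact
  have hnil : ∀ a b, IsNilpotent (X.presheaf.map (homOfLE (inf_le_left : V a ⊓ V b ≤ V a)).op (A a) * u a b ^ p ^ N -
      X.presheaf.map (homOfLE (inf_le_right : V a ⊓ V b ≤ V b)).op (A b)) := fun a b => by
    refine PerfSchLib.isNilpotent_of_app_eq_zero h (hcompact a b) ?_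
    rw [map_sub, map_mul, map_pow, AmpleFamLib.app_res π, AmpleFamLib.app_res π, hA, hA, map_pow, map_pow,
      ← mul_pow, hrel, sub_self]
  choose m hm using hnil
  let M := Finset.univ.sup fun ab : t × t => m ab.1 ab.2
  have heq : ∀ a b, X.presheaf.map (homOfLE (inf_le_left : V a ⊓ V b ≤ V a)).op (A a ^ p ^ M) * u a b ^ p ^ (N + M) =
      X.presheaf.map (homOfLE (inf_le_right : V a ⊓ V b ≤ V b)).op (A b ^ p ^ M) := fun a b => by
    rw [map_pow, map_pow, pow_add, pow_mul, ← mul_pow, ← sub_eq_zero,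
      ← PerfSchLib.sub_pow _ (PerfSchLib.natCast_eq_zero X _)]
    exact pow_eq_zero_of_le ((Finset.le_sup (f := fun ab : t × t => m ab.1 ab.2) (Finset.mem_univ (a, b))).trans
      (Nat.lt_pow_self hp.out.one_lt).le) (hm a b)
  let q := p ^ (N + M)
  let F : TopCat.Sheaf Ab.{u} X.carrier := ⟨(CohB1.tensorPow Q q).presheaf, (CohB1.tensorPow Q q).isSheaf⟩
  obtain ⟨τ, hτ, -⟩ := F.existsUnique_gluing' V ⊤ (fun a => homOfLE le_top) hV.ge
    (fun a => (A a ^ p ^ M) • powLoc (g a) q) (fun a b => by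
      show (CohB1.tensorPow Q q).presheaf.map (homOfLE (inf_le_left : V a ⊓ V b ≤ V a)).op _ =
        (CohB1.tensorPow Q q).presheaf.map (homOfLE (inf_le_right : V a ⊓ V b ≤ V b)).op _
      rw [Scheme.Modules.map_smul, Scheme.Modules.map_smul, powLoc_res, powLoc_res, ← hue a b, powLoc_smul,
        smul_smul, heq])
  refine ⟨q, secHom _ τ, pow_pos hp.out.pos _, ?_⟩
  have hloc : ∀ a, CohB1.genLocus _ (secHom (CohB1.tensorPow Q q) τ) ⊓ V a = X.basicOpen (A a ^ p ^ M) := fun a =>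
    genLocus_inf_eq_basicOpen _ (gen_powLoc (hg a) q) (by rw [sec_secHom]; exact (hτ a).symm)
  have hσ : ∀ a, CohB1.genLocus _ σ ⊓ π ⁻¹ᵁ V a = XP.basicOpen (c a) := fun a =>
    genLocus_inf_eq_basicOpen σ (hG a) (hc a)
  have key : ∀ a, π ⁻¹ᵁ X.basicOpen (A a ^ p ^ M) = XP.basicOpen (c a) := fun a => by
    rw [Scheme.preimage_basicOpen, map_pow, hA, ← pow_mul, ← pow_add, Scheme.basicOpen_pow _ _ (pow_pos hp.out.pos _)]
  ext z
  obtain ⟨a, ha⟩ := Opens.mem_iSup.1 (hV.ge (Opens.mem_top (π z)))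
  have e1 : π ⁻¹ᵁ (CohB1.genLocus _ (secHom (CohB1.tensorPow Q q) τ) ⊓ V a) = CohB1.genLocus _ σ ⊓ π ⁻¹ᵁ V a := by
    rw [hloc, key, hσ]
  exact ⟨fun hz => (e1.le ⟨hz, ha⟩).1, fun hz => (e1.ge ⟨hz, ha⟩).1⟩

/-- Ampleness descends along a perfection. -/
theorem isAmple_of_pullback {L : X.Modules} (hL : PicF.IsInvertible L)
    (hamp : CohB1.IsAmple ((Scheme.Modules.pullback π).obj L)) : CohB1.IsAmple L := by
  refine ⟨hL, inferInstance, fun x => ?_⟩
  obtain ⟨y, rfl⟩ := (PerfSchLib.surjective h).1 x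
  obtain ⟨n, σ', hy, haff⟩ := hamp.2.2 y
  have hg : CohB1.genLocus _ (σ' ≫ (pullPow π L (n + 1)).inv) = CohB1.genLocus _ σ' :=
    genLocus_comp_iso σ' (pullPow π L (n + 1)).symm
  obtain ⟨q, T, hq, hT⟩ := exists_section_eq h (isInvertible_tensorPow hL (n + 1)) (σ' ≫ (pullPow π L (n + 1)).inv)
  rw [hg] at hT
  obtain ⟨k, hk⟩ : ∃ k, (n + 1) * q = k + 1 :=
    ⟨(n + 1) * q - 1, (Nat.succ_pred_eq_of_pos (Nat.mul_pos n.succ_pos hq)).symm⟩
  refine ⟨k, T ≫ (powMul L (n + 1) q ≪≫ eqToIso (congrArg (CohB1.tensorPow L) hk)).hom, ?_⟩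
  rw [genLocus_comp_iso]
  let G := CohB1.genLocus _ T
  refine ⟨hT.ge hy, ?_⟩
  haveI : FrobSch.IsCharP (π ⁻¹ᵁ G).toScheme p := FrobSch.IsCharP.of_hom (π ⁻¹ᵁ G).ι p
  haveI : FrobSch.IsCharP G.toScheme p := FrobSch.IsCharP.of_hom G.ι p
  haveI : IsAffine (π ⁻¹ᵁ G).toScheme := hT ▸ haff
  exact PerfSchLib.isAffine_of_isAffine (PerfSchLib.IsPerfection.restrict h G)

end Groth.Agent.PerfAmpleLib
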